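import Mathlib
import Groth.Agent.Lib.Helper1.EquiDim
import Groth.Agent.Lib.Helper1.DimFormula3
import Groth.Agent.Lib.Helper1.DimIneqE
import Groth.Agent.Lib.Helper5.NumRS.Nef

/-!
# A nonempty effective Cartier divisor on a surface has dimension one
-/

set_option autoImplicit false
set_option linter.style.haveILetI false
universe u
open CategoryTheory AlgebraicGeometry TopologicalSpace Order

namespace Groth.Agent.H5.NegCfg

/-- a nontrivial specialization inside a subset gives dimension at least one. -/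
theorem one_le_dim_of_specializes {T : Type*} [TopologicalSpace T] (S : Set T) (x y : T)
    (hx : x ∈ S) (hy : y ∈ S) (h : y ⤳ x) (hne : ¬ x ⤳ y) :
    (1 : WithBot ℕ∞) ≤ topologicalKrullDim S := by
  let a : IrreducibleCloseds S :=
    ⟨closure {(⟨x, hx⟩ : S)}, isIrreducible_singleton.closure, isClosed_closure⟩
  let b : IrreducibleCloseds S :=
    ⟨closure {(⟨y, hy⟩ : S)}, isIrreducible_singleton.closure, isClosed_closure⟩
  have hyx : (⟨y, hy⟩ : S) ⤳ ⟨x, hx⟩ :=
    (Topology.IsInducing.subtypeVal.specializes_iff).mp h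
  have hab : a < b := by
    rw [lt_iff_le_and_ne]
    constructor
    · change closure {(⟨x, hx⟩ : S)} ⊆ closure {(⟨y, hy⟩ : S)}
      exact closure_minimal (Set.singleton_subset_iff.mpr hyx.mem_closure) isClosed_closure
    · intro heq
      have h1 : (⟨y, hy⟩ : S) ∈ (b : Set S) := subset_closure rfl
      rw [← heq] at h1
      have h2 : (⟨x, hx⟩ : S) ⤳ ⟨y, hy⟩ := specializes_iff_mem_closure.mpr h1
      exact hne ((Topology.IsInducing.subtypeVal.specializes_iff).mpr h2)
  have h2 := LTSeries.length_le_krullDim ((RelSeries.singleton _ a).snoc b hab)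
  unfold topologicalKrullDim
  simpa using h2

/-- an effective Cartier divisor on an integral surface has dimension at most one
(no group law needed). -/
theorem dim_support_le_one_of_isEffCartier' (X : Scheme.{u}) [IsIntegral X]
    (hdim : topologicalKrullDim X = 2)
    (D : X.IdealSheafData) (hC : BlowUp.IsEffCartierIdeal D) :
    topologicalKrullDim (D.support : Set X) ≤ 1 := by
  have hne : D ≠ ⊥ := by
    intro h0
    obtain ⟨x⟩ : Nonempty X := inferInstance
    obtain ⟨U, hxU, f, hf, hUf⟩ := hC x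
    haveI : Nonempty U.1 := ⟨⟨x, hxU⟩⟩
    haveI : Nontrivial Γ(X, U.1) := inferInstance
    have hf0 : f ≠ 0 := nonZeroDivisors.ne_zero hf
    rw [h0] at hUf
    have h1 : f ∈ (⊥ : X.IdealSheafData).ideal U := by
      rw [hUf]; exact Ideal.mem_span_singleton_self f
    exact hf0 (by simpa using h1)
  apply Groth.Agent.H5.NumRS.dim_le_one_of_ne_univ hdim _ D.support.isClosed
  intro huniv
  apply hne
  rw [← Scheme.IdealSheafData.support_eq_top_iff]
  exact Closeds.ext huniv

/-- the local ring of a surface at a closed point has dimension two. -/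
theorem ringKrullDim_stalk_of_isClosed (k : Type u) [Field k] (X : Scheme.{u})
    [X.Over (Spec (CommRingCat.of k))] [IsProper (X ↘ Spec (CommRingCat.of k))] [IsIntegral X]
    (hdim : topologicalKrullDim X = 2) (x : X)
    (hx : IsClosed ({x} : Set X)) : ringKrullDim (X.presheaf.stalk x) = 2 := by
  rw [← Groth.Agent.H1.DimFormula.localDim_eq_stalk_of_isClosed (X ↘ Spec (CommRingCat.of k)) x hx,
    Groth.Agent.H1.EquiDim.localDim_eq_dim (X ↘ Spec (CommRingCat.of k)) x, hdim]

/-- **a nonempty effective Cartier divisor on an integral proper surface has dimension one.** -/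
theorem dim_support_eq_one_of_isEffCartier (k : Type u) [Field k] (X : Scheme.{u})
    [X.Over (Spec (CommRingCat.of k))] [IsProper (X ↘ Spec (CommRingCat.of k))] [IsIntegral X]
    (hdim : topologicalKrullDim X = 2)
    (D : X.IdealSheafData) (hC : BlowUp.IsEffCartierIdeal D) (hD : D ≠ ⊤) :
    topologicalKrullDim (D.support : Set X) = 1 := by
  haveI : IsNoetherian X := Groth.Agent.H5.Curve2.isNoetherian_of_proper k X
  apply le_antisymm (dim_support_le_one_of_isEffCartier' X hdim D hC)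
  have hne : (D.support : Set X).Nonempty := by
    rw [Set.nonempty_iff_ne_empty]
    intro h0
    apply hD
    rw [← Scheme.IdealSheafData.support_eq_bot_iff]
    exact Closeds.ext h0
  obtain ⟨x, hxD, hxcl⟩ := IsClosed.exists_closed_singleton (X := X) D.support.isClosed hne
  obtain ⟨U, hxU, f, hf, hUf⟩ := hC x
  have hU : IsAffineOpen U.1 := U.2
  have h2 := ringKrullDim_stalk_of_isClosed k X hdim x hxcl
  rw [Groth.Agent.H1.DimIneq.ringKrullDim_stalk_eq_height hU x hxU] at h2
  set 𝔪 : PrimeSpectrum Γ(X, U.1) := hU.primeIdealOf ⟨x, hxU⟩ with h𝔪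
  have hm2 : 𝔪.asIdeal.height = 2 := WithBot.coe_injective (by rw [h2]; rfl)
  haveI : IsNoetherianRing Γ(X, U.1) := IsLocallyNoetherian.component_noetherian U
  -- `f ∈ 𝔪`
  have hx0 : x ∈ X.zeroLocus (U := U.1) (D.ideal U) ∩ U.1 :=
    ⟨(Scheme.IdealSheafData.mem_support_iff_of_mem hxU).mp hxD, hxU⟩
  rw [← hU.fromSpec_image_zeroLocus] at hx0
  obtain ⟨𝔮, h𝔮, h𝔮x⟩ := hx0
  have hinj : Function.Injective hU.fromSpec := hU.fromSpec.isOpenEmbedding.injective
  have h𝔮m : 𝔮 = 𝔪 := hinj (h𝔮x.trans (hU.fromSpec_primeIdealOf ⟨x, hxU⟩).symm)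
  have hle : D.ideal U ≤ 𝔪.asIdeal := by
    rw [← h𝔮m]
    exact (PrimeSpectrum.mem_zeroLocus _ _).mp h𝔮
  rw [hUf] at hle
  obtain ⟨𝔭, h𝔭min, h𝔭le⟩ := Ideal.exists_minimalPrimes_le hle
  haveI : 𝔭.IsPrime := h𝔭min.1.1
  have h𝔭1 : 𝔭.height ≤ 1 :=
    Ideal.height_le_one_of_isPrincipal_of_mem_minimalPrimes (Ideal.span {f}) 𝔭 h𝔭min
  have h𝔭ne : 𝔭 ≠ 𝔪.asIdeal := by
    intro heq
    rw [heq, hm2] at h𝔭1
    exact absurd h𝔭1 (by decide)
  let P : PrimeSpectrum Γ(X, U.1) := ⟨𝔭, inferInstance⟩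
  set y : X := hU.fromSpec P with hy
  have hyD : y ∈ D.support := by
    have hyU : y ∈ U.1 := by
      have : y ∈ Set.range hU.fromSpec := ⟨P, rfl⟩
      rwa [hU.range_fromSpec] at this
    rw [Scheme.IdealSheafData.mem_support_iff_of_mem hyU]
    have : y ∈ X.zeroLocus (U := U.1) (D.ideal U) ∩ U.1 := by
      rw [← hU.fromSpec_image_zeroLocus]
      refine ⟨P, ?_, rfl⟩
      refine (PrimeSpectrum.mem_zeroLocus P _).mpr ?_
      rw [hUf]
      exact h𝔭min.1.2
    exact this.1
  have hPm : P ⤳ 𝔪 := (PrimeSpectrum.le_iff_specializes P 𝔪).mp h𝔭le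
  have hyx : y ⤳ x := by
    have := hPm.map hU.fromSpec.continuous
    rwa [hU.fromSpec_primeIdealOf ⟨x, hxU⟩] at this
  have hxy : ¬ x ⤳ y := by
    intro hsp
    have hsp' : hU.fromSpec 𝔪 ⤳ hU.fromSpec P := by
      rw [hU.fromSpec_primeIdealOf ⟨x, hxU⟩]
      exact hsp
    have h3 : 𝔪 ⤳ P :=
      (hU.fromSpec.isOpenEmbedding.isInducing.specializes_iff).mp hsp'
    have h4 : 𝔪 ≤ P := (PrimeSpectrum.le_iff_specializes 𝔪 P).mpr h3
    exact h𝔭ne (le_antisymm h𝔭le h4)
  exact one_le_dim_of_specializes _ x y hxD hyD hyx hxy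

end Groth.Agent.H5.NegCfg
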