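import Mathlib

/-!
# Integer lemmas on negative definite matrices with nonnegative off-diagonal entries
-/

set_option autoImplicit false
open Finset

namespace Groth.Agent.H5.NegCfg

section
variable {r : ℕ}

/-- positive part. -/
def pp (s : Fin r → ℤ) : Fin r → ℤ := fun i => max (s i) 0
/-- negative part. -/
def np (s : Fin r → ℤ) : Fin r → ℤ := fun i => max (-(s i)) 0

theorem pp_nonneg (s : Fin r → ℤ) (i : Fin r) : 0 ≤ pp s i := le_max_right _ _
theorem np_nonneg (s : Fin r → ℤ) (i : Fin r) : 0 ≤ np s i := le_max_right _ _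
theorem pp_sub_np (s : Fin r → ℤ) (i : Fin r) : s i = pp s i - np s i :=
  (max_zero_sub_max_neg_zero_eq_self (s i)).symm
theorem pp_mul_np (s : Fin r → ℤ) (i : Fin r) : pp s i * np s i = 0 := by
  unfold pp np
  rcases le_total (s i) 0 with h | h
  · rw [max_eq_right h, zero_mul]
  · rw [max_eq_right (by omega : -(s i) ≤ 0), mul_zero]

theorem cross_nonneg (G : Fin r → Fin r → ℤ) (hoff : ∀ i j, i ≠ j → 0 ≤ G i j)
    (s : Fin r → ℤ) : 0 ≤ ∑ i, ∑ j, pp s i * np s j * G i j := by
  apply Finset.sum_nonneg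
  intro i _
  apply Finset.sum_nonneg
  intro j _
  by_cases hij : i = j
  · subst hij
    rw [pp_mul_np, zero_mul]
  · exact mul_nonneg (mul_nonneg (pp_nonneg s i) (np_nonneg s j)) (hoff i j hij)

/-- solving `G s = t` with `t ≤ 0` for a negative definite `G` with nonnegative off-diagonal
entries gives `s ≥ 0`. -/
theorem nonneg_of_solve_int (G : Fin r → Fin r → ℤ)
    (hoff : ∀ i j, i ≠ j → 0 ≤ G i j)
    (hneg : ∀ a : Fin r → ℤ, a ≠ 0 → ∑ i, ∑ j, a i * a j * G i j < 0)
    (s t : Fin r → ℤ) (ht : ∀ j, t j ≤ 0) (hs : ∀ j, ∑ i, s i * G i j = t j) :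
    ∀ i, 0 ≤ s i := by
  by_contra hcon
  have hn : np s ≠ 0 := by
    intro h0
    apply hcon
    intro i
    have := congrFun h0 i
    unfold np at this
    have h1 : -(s i) ≤ 0 := by
      have := le_max_left (-(s i)) 0
      simp only [Pi.zero_apply] at *
      omega
    omega
  have h1 := hneg (np s) hn
  have h2 : ∑ j, np s j * t j ≤ 0 :=
    Finset.sum_nonpos (fun j _ => mul_nonpos_of_nonneg_of_nonpos (np_nonneg s j) (ht j))
  have h3 : ∑ j, np s j * t j =
      ∑ i, ∑ j, pp s i * np s j * G i j - ∑ i, ∑ j, np s i * np s j * G i j := by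
    rw [Finset.sum_comm, Finset.sum_comm (f := fun i j => np s i * np s j * G i j),
      ← Finset.sum_sub_distrib]
    apply Finset.sum_congr rfl
    intro j _
    rw [← hs j, Finset.mul_sum, ← Finset.sum_sub_distrib]
    apply Finset.sum_congr rfl
    intro i _
    rw [pp_sub_np s i]
    ring
  have h4 := cross_nonneg G hoff s
  linarith

/-- a matrix with nonnegative off-diagonal entries which is negative definite on the vectors
that are not orthogonal to everything, and admits a strictly negative linear form, is negative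
definite. -/
theorem negDef_of_numNontrivial (G : Fin r → Fin r → ℤ) (h : Fin r → ℤ)
    (hoff : ∀ i j, i ≠ j → 0 ≤ G i j) (hh : ∀ i, h i < 0)
    (hneg : ∀ a : Fin r → ℤ, (∑ i, a i * h i ≠ 0 ∨ ∃ j, ∑ i, a i * G i j ≠ 0) →
      ∑ i, ∑ j, a i * a j * G i j < 0) :
    ∀ a : Fin r → ℤ, a ≠ 0 → ∑ i, ∑ j, a i * a j * G i j < 0 := by
  intro a ha
  by_cases hprem : (∑ i, a i * h i ≠ 0 ∨ ∃ j, ∑ i, a i * G i j ≠ 0)
  · exact hneg a hprem
  exfalso
  push Not at hprem
  obtain ⟨hH, hG⟩ := hprem
  -- `Σ p h = Σ n h`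
  have h1 : ∑ i, pp a i * h i = ∑ i, np a i * h i := by
    have : ∑ i, a i * h i = ∑ i, pp a i * h i - ∑ i, np a i * h i := by
      rw [← Finset.sum_sub_distrib]
      apply Finset.sum_congr rfl
      intro i _
      rw [pp_sub_np a i]; ring
    linarith
  have hsumneg : ∀ v : Fin r → ℤ, (∀ i, 0 ≤ v i) → v ≠ 0 → ∑ i, v i * h i < 0 := by
    intro v hv hv0
    obtain ⟨i0, hi0⟩ : ∃ i, v i ≠ 0 := by
      by_contra hcon
      push Not at hcon
      exact hv0 (funext hcon)
    have hpos : 0 < v i0 := lt_of_le_of_ne (hv i0) (Ne.symm hi0)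
    calc ∑ i, v i * h i ≤ v i0 * h i0 := by
          rw [← Finset.sum_erase_add _ _ (Finset.mem_univ i0)]
          have : ∑ i ∈ univ.erase i0, v i * h i ≤ 0 :=
            Finset.sum_nonpos (fun i _ => mul_nonpos_of_nonneg_of_nonpos (hv i) (hh i).le)
          linarith
      _ < 0 := mul_neg_of_pos_of_neg hpos (hh i0)
  have hsumzero : ∀ v : Fin r → ℤ, v = 0 → ∑ i, v i * h i = 0 := by
    intro v hv
    subst hv
    simp
  -- `p ≠ 0`
  have hp : pp a ≠ 0 := by
    intro hp0
    have hn0 : np a ≠ 0 := by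
      intro hn0
      apply ha
      funext i
      rw [pp_sub_np a i, hp0, hn0]
      simp
    have := hsumneg (np a) (np_nonneg a) hn0
    rw [← h1, hsumzero _ hp0] at this
    exact lt_irrefl _ this
  have hpneg := hsumneg (pp a) (pp_nonneg a) hp
  have h2 := hneg (pp a) (Or.inl hpneg.ne)
  -- but `p G p = n G p ≥ 0`
  have h3 : ∑ i, ∑ j, pp a i * pp a j * G i j = ∑ i, ∑ j, np a i * pp a j * G i j := by
    rw [Finset.sum_comm, Finset.sum_comm (f := fun i j => np a i * pp a j * G i j)]
    apply Finset.sum_congr rfl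
    intro j _
    have h4 := hG j
    have h5 : ∑ i, a i * G i j = ∑ i, pp a i * G i j - ∑ i, np a i * G i j := by
      rw [← Finset.sum_sub_distrib]
      apply Finset.sum_congr rfl
      intro i _
      rw [pp_sub_np a i]; ring
    have h6 : ∑ i, pp a i * pp a j * G i j = pp a j * ∑ i, pp a i * G i j := by
      rw [Finset.mul_sum]
      apply Finset.sum_congr rfl
      intro i _
      ring
    have h7 : ∑ i, np a i * pp a j * G i j = pp a j * ∑ i, np a i * G i j := by
      rw [Finset.mul_sum]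
      apply Finset.sum_congr rfl
      intro i _
      ring
    rw [h6, h7]
    congr 1
    linarith
  have h8 : 0 ≤ ∑ i, ∑ j, np a i * pp a j * G i j := by
    apply Finset.sum_nonneg
    intro i _
    apply Finset.sum_nonneg
    intro j _
    by_cases hij : i = j
    · subst hij
      rw [mul_comm (np a i), pp_mul_np, zero_mul]
    · exact mul_nonneg (mul_nonneg (np_nonneg a i) (pp_nonneg a j)) (hoff i j hij)
  linarith

end

end Groth.Agent.H5.NegCfg
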