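import Mathlib
import Groth.Agent.Lib.Helper5.NumRS.CC
import Groth.Agent.Lib.Helper5.NumRS.Cart
import Groth.Agent.Lib.Helper5.NumRS.Pair
import Groth.Agent.Lib.Helper5.NegCfg.DimCart
import Groth.Agent.Lib.Helper5.NegCfg.IntLem
import Groth.Agent.Lib.Lead.RR.SurfKit

/-!
# Geometric input for negative definite configurations of curves on a surface
-/

set_option autoImplicit false
set_option linter.style.haveILetI false
universe u
open CategoryTheory CategoryTheory.Limits AlgebraicGeometry TopologicalSpace Opposite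

namespace Groth.Agent.H5.NegCfg

open Groth.Agent.LD Groth.Agent.LD.QC Groth.Agent.H5.IntN Groth.Agent.H5.Curve3
  Groth.Agent.H5.Curve6 Groth.Agent.H5.Snap Groth.Agent.H5.NumRS

variable (k : Type u) [Field k] (X : Scheme.{u}) [X.Over (Spec (CommRingCat.of k))]
  [IsProper (X ↘ Spec (CommRingCat.of k))] [IsIntegral X]

/-- **an effective Cartier divisor meets an integral Cartier curve not contained in it
nonnegatively.** -/
theorem intNum_eff_curve_nonneg (hdim : topologicalKrullDim X = 2) (I J : X.IdealSheafData)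
    (hJint : IsIntegral J.subscheme)
    (hJd : topologicalKrullDim (J.support : Set X) = 1)
    (hI : PicF.IsInvertible (ClSub.idealMod I)) (hJ : PicF.IsInvertible (ClSub.idealMod J))
    (hne : ¬ (J.support : Set X) ⊆ (I.support : Set X)) :
    0 ≤ FGA.intNum k X 2 ![ClSub.idealMod I, ClSub.idealMod J] (Coh.structureModule X) := by
  haveI : IsNoetherian X := Groth.Agent.H5.Curve2.isNoetherian_of_proper k X
  haveI := hJint
  have hd2 : topologicalKrullDim X ≤ ((2 : ℕ) : WithBot ℕ∞) := by rw [hdim]; rfl
  have hCI : BlowUp.IsEffCartierIdeal I := (isInvertible_idealMod_iff I).mp hI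
  have hCJ : BlowUp.IsEffCartierIdeal J := (isInvertible_idealMod_iff J).mp hJ
  have hOc : Coh.IsCoh (Coh.structureModule X) := Groth.Agent.LD.PF.isCoh_unitMod X
  have hJne : J ≠ ⊥ := by
    intro h0
    rw [h0, Scheme.IdealSheafData.support_bot] at hJd
    have h1 : topologicalKrullDim ((⊤ : Closeds X) : Set X) = topologicalKrullDim X :=
      IsHomeomorph.topologicalKrullDim_eq _ (Homeomorph.Set.univ X).isHomeomorph
    rw [h1, hdim] at hJd
    exact absurd hJd (by decide)
  -- first reduction
  have h1 := intNum_snoc_idealMod k 2 hd2 (fun _ : Fin 1 => ClSub.idealMod I) (fun _ => hI)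
    (Coh.structureModule X) hOc J hCJ
    (fun x hx => not_isAssPoint_unit_of_mem_support J hJne x hx)
  have hsn : (Fin.snoc (fun _ : Fin 1 => ClSub.idealMod I) (ClSub.idealMod J) :
      Fin 2 → X.Modules) = ![ClSub.idealMod I, ClSub.idealMod J] := by
    funext i
    fin_cases i <;> rfl
  rw [hsn] at h1
  rw [h1, intNum_iso k 2 (fun _ : Fin 1 => ClSub.idealMod I) (unitorL' (ClSub.quotMod J))]
  -- second reduction
  have hass : ∀ x ∈ I.support, ¬ Curv2.IsAssPoint (ClSub.quotMod J) x := by
    intro x hx hassx
    have h2 := support_subset_of_isAssPoint_quotMod J x hassx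
    have h3 : closure ({x} : Set X) ⊆ (I.support : Set X) :=
      closure_minimal (Set.singleton_subset_iff.mpr hx) I.support.isClosed
    exact hne (h2.trans h3)
  let M₀ : Fin 0 → X.Modules := fun i => i.elim0
  have hQJ : Coh.IsCoh (ClSub.quotMod J) := isCoh_quotMod J
  have hQI : Coh.IsCoh (ClSub.quotMod I) := isCoh_quotMod I
  have h5 := intNum_snoc_idealMod k 2 hd2 M₀ (fun i => i.elim0) (ClSub.quotMod J) hQJ I hCI hass
  have hsn0 : (Fin.snoc M₀ (ClSub.idealMod I) : Fin 1 → X.Modules) =
      fun _ : Fin 1 => ClSub.idealMod I := by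
    funext i
    fin_cases i
    rfl
  rw [hsn0] at h5
  rw [h5]
  have hTc : Coh.IsCoh (CohB1.tensorMod (ClSub.quotMod J) (ClSub.quotMod I)) :=
    Groth.Agent.H5.DegC.isCoh_tensorMod' hQJ hQI
  have hsupp : CohB1.support (CohB1.tensorMod (ClSub.quotMod J) (ClSub.quotMod I)) ⊆
      (J.support : Set X) ∩ (I.support : Set X) := by
    intro x hx
    haveI := hQJ.1
    haveI := hQI.1
    have h6 := (Groth.Agent.H2.SuppTensor.support_tensorMod _ _ hQJ.2 hQI.2 x).mp hx
    constructor
    · have : x ∈ CohB1.support (ClSub.quotMod J) := h6.1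
      rwa [support_quotMod] at this
    · have : x ∈ CohB1.support (ClSub.quotMod I) := h6.2
      rwa [support_quotMod] at this
  have hdim0 : topologicalKrullDim
      (CohB1.support (CohB1.tensorMod (ClSub.quotMod J) (ClSub.quotMod I))) ≤
        ((0 : ℕ) : WithBot ℕ∞) := by
    have hirr : IsIrreducible (J.support : Set X) := by
      rw [support_eq_closure_of_isIntegral J]
      exact isIrreducible_singleton.closure
    have hss : (J.support : Set X) ∩ (I.support : Set X) ⊂ (J.support : Set X) := by
      refine lt_of_le_of_ne Set.inter_subset_left ?_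
      intro heq
      apply hne
      rw [← heq]; exact Set.inter_subset_right
    have h7 := dim_lt_of_ssubset (J.support.isClosed.inter I.support.isClosed) hirr hss 1
      (by rw [hJd]; rfl)
    have h8 : topologicalKrullDim
        (CohB1.support (CohB1.tensorMod (ClSub.quotMod J) (ClSub.quotMod I))) ≤
        topologicalKrullDim ↥((J.support : Set X) ∩ (I.support : Set X)) :=
      (Topology.IsInducing.topologicalKrullDim_le (f := Set.inclusion hsupp)
        (Topology.IsEmbedding.inclusion hsupp).isInducing)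
    have h9 := lt_of_le_of_lt h8 h7
    rcases hT : topologicalKrullDim
        (CohB1.support (CohB1.tensorMod (ClSub.quotMod J) (ClSub.quotMod I))) with _ | n
    · exact bot_le
    · rw [hT] at h9
      have h10 : n < ((1 : ℕ) : ℕ∞) := WithBot.coe_lt_coe.mp h9
      have h11 : n ≤ 0 := by
        have : n < 0 + 1 := by simpa using h10
        exact (ENat.lt_add_one_iff (by simp)).mp this
      exact WithBot.coe_le_coe.mpr h11
  exact intNum_nonneg_of_isAmple k X 2 hd2 M₀ M₀ (fun i => i.elim0) (fun i => i.elim0) _ hTc hdim0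

/-- the degree of an ample module on an effective Cartier divisor is nonnegative:
`(H · O(-D)) ≤ 0`. -/
theorem intNum_ample_idealMod_nonpos (hdim : topologicalKrullDim X = 2) (H : X.Modules)
    (hH : CohB1.IsAmple H) (D : X.IdealSheafData) (hC : BlowUp.IsEffCartierIdeal D) :
    FGA.intNum k X 2 ![H, ClSub.idealMod D] (Coh.structureModule X) ≤ 0 := by
  have hd2 : topologicalKrullDim X ≤ ((2 : ℕ) : WithBot ℕ∞) := by rw [hdim]; rfl
  have hD1 := dim_support_le_one_of_isEffCartier' X hdim D hC
  rw [intNum_idealMod k X hdim H hH.1 D hC (by rw [dim_subscheme_eq]; exact hD1),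
    ← euler_quotMod_sub_eq_curveDeg k D hD1 H hH.1]
  obtain ⟨M, hM, hLM⟩ := Groth.Agent.H5.Glue.exists_inverse H hH.1
  have hQ : Coh.IsCoh (ClSub.quotMod D) := isCoh_quotMod D
  have hQdim : topologicalKrullDim (CohB1.support (ClSub.quotMod D)) ≤ 1 := by
    rw [support_quotMod]; exact hD1
  rw [euler_tensor_sub k 2 hd2 H M hH.1 hLM _ hQ hQdim]
  have := intNum_nonneg_of_isAmple k X 2 hd2 (fun _ : Fin 1 => H) (fun _ : Fin 1 => M)
    (fun _ => hH) (fun _ => hLM) _ hQ (by exact_mod_cast hQdim)
  linarith

/-- the degree of an ample module on a nonempty effective Cartier divisor is positive: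
`(H · O(-D)) < 0`. -/
theorem intNum_ample_idealMod_neg (hdim : topologicalKrullDim X = 2) (H : X.Modules)
    (hH : CohB1.IsAmple H) (D : X.IdealSheafData) (hC : BlowUp.IsEffCartierIdeal D)
    (hD1 : topologicalKrullDim (D.support : Set X) = 1) :
    FGA.intNum k X 2 ![H, ClSub.idealMod D] (Coh.structureModule X) < 0 := by
  rw [intNum_idealMod k X hdim H hH.1 D hC (by rw [dim_subscheme_eq]; exact hD1.le),
    ← euler_quotMod_sub_eq_curveDeg k D hD1.le H hH.1]
  have := euler_tensor_sub_pos_of_isAmple k H hH _ (isCoh_quotMod D)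
    (by rw [support_quotMod, hD1])
  linarith

/-- `deg (L|_D) = - (L · O(-D))` in Euler characteristic form. -/
theorem euler_quotMod_sub_eq_neg_intNum (hdim : topologicalKrullDim X = 2) (L : X.Modules)
    (hL : PicF.IsInvertible L) (D : X.IdealSheafData) (hC : BlowUp.IsEffCartierIdeal D)
    (hD1 : topologicalKrullDim (D.support : Set X) ≤ 1) :
    Curv2.euler k X (CohB1.tensorMod (ClSub.quotMod D) L) - Curv2.euler k X (ClSub.quotMod D) =
      - FGA.intNum k X 2 ![L, ClSub.idealMod D] (Coh.structureModule X) := by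
  rw [intNum_idealMod k X hdim L hL D hC (by rw [dim_subscheme_eq]; exact hD1),
    euler_quotMod_sub_eq_curveDeg k D hD1 L hL, neg_neg]

end Groth.Agent.H5.NegCfg
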