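import Mathlib
import Groth.Agent.Lib.Helper5.NegCfg.Core
import Groth.Agent.Lib.Helper5.Curve6.P1Conv
import Groth.Agent.Lib.Helper5.DegC.Nef
import Groth.Agent.Lib.Helper5.IntN.Klei2

/-!
# `(O(C) · L) = deg (L|_C)` for a closed immersion of an integral curve into a regular surface
(S13459)
-/

set_option autoImplicit false
set_option linter.style.haveILetI false
universe u
open CategoryTheory CategoryTheory.Limits AlgebraicGeometry TopologicalSpace Opposite

namespace Groth.Agent.H5.NegCfg

open Groth.Agent.LD Groth.Agent.LD.QC Groth.Agent.H5.IntN Groth.Agent.H5.NumRS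
  Groth.Agent.LD.RRS.Kit Groth.Agent.H5.DegC Groth.Agent.H5.Curve6

theorem intNum_idealMod_ker_eq_deg (k : Type u) [Field k] (S : Scheme.{u})
    [S.Over (Spec (CommRingCat.of k))] [IsProper (S ↘ Spec (CommRingCat.of k))] [IsIntegral S]
    (hdim : topologicalKrullDim S = 2)
    (hreg : ∀ x : S, IsRegularLocalRing (S.presheaf.stalk x))
    (C : Scheme.{u}) (i : C ⟶ S) [IsClosedImmersion i] [IsIntegral C]
    (hC : topologicalKrullDim C = 1)
    (L L' : S.Modules) (hL : PicF.IsInvertible L)
    (hLL' : Nonempty (CohB1.tensorMod L L' ≅ Coh.structureModule S)) :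
    letI : C.Over (Spec (CommRingCat.of k)) := ⟨i ≫ (S ↘ (Spec (CommRingCat.of k)))⟩
    FGA.intNum k S 2 ![ClSub.idealMod i.ker, L'] (Coh.structureModule S) =
      Curv2.deg k C ((Scheme.Modules.pullback i).obj L) 1 := by
  letI : C.Over (Spec (CommRingCat.of k)) := ⟨i ≫ (S ↘ (Spec (CommRingCat.of k)))⟩
  obtain ⟨e⟩ := hLL'
  have hd : topologicalKrullDim S ≤ ((2 : ℕ) : WithBot ℕ∞) := le_of_eq hdim
  set D : S.IdealSheafData := i.ker with hD
  let φ : C ⟶ D.subscheme := i.toImage
  have hφ : φ ≫ D.subschemeι = i := i.toImage_imageι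
  haveI : IsIso φ := inferInstanceAs (IsIso i.toImage)
  -- `D.subscheme` is an integral curve
  have hDint : IsIntegral D.subscheme := by
    haveI : Nonempty D.subscheme := ⟨φ (Classical.arbitrary C)⟩
    exact isIntegral_of_isOpenImmersion (inv φ)
  have hDd : topologicalKrullDim (D.support : Set S) = 1 := by
    rw [← Groth.Agent.H5.IntN.dim_subscheme_eq D, ← hC]
    exact (IsHomeomorph.topologicalKrullDim_eq _ (φ.homeomorph).isHomeomorph).symm
  obtain ⟨hcart, hinv⟩ := isInvertible_idealMod_of_curve k S hdim hreg D hDint hDd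
  have hL' : PicF.IsInvertible L' := isInvertible_of_tensor_iso hL e
  -- the left hand side
  have h1 : FGA.intNum k S 2 ![ClSub.idealMod D, L'] (Coh.structureModule S) =
      Curv2.euler k S (CohB1.tensorMod (ClSub.quotMod D) L) - Curv2.euler k S (ClSub.quotMod D) := by
    rw [euler_quotMod_sub_eq_neg_intNum k S hdim L hL D hcart hDd.le,
      intNum_comm k _ _ hinv hL', intNum_inv_left k hd L L' _ hL hinv e]
  rw [h1]
  -- the right hand side
  have h2 := deg_restrict_eq k D 1 L (isFinLocFree_of_isInvertible L hL)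
  letI : D.subscheme.Over (Spec (CommRingCat.of k)) := overOf k D.subschemeι
  have hf : φ ≫ (D.subscheme ↘ Spec (CommRingCat.of k)) = C ↘ Spec (CommRingCat.of k) := by
    change φ ≫ (D.subschemeι ≫ (S ↘ Spec (CommRingCat.of k))) = i ≫ (S ↘ Spec (CommRingCat.of k))
    rw [← Category.assoc, hφ]
  have h3 := deg_pullback_of_isIso k φ hf ((Scheme.Modules.pullback D.subschemeι).obj L) 1
  have h4 : Curv2.deg k C ((Scheme.Modules.pullback i).obj L) 1 =
      Curv2.deg k C ((Scheme.Modules.pullback φ).obj
        ((Scheme.Modules.pullback D.subschemeι).obj L)) 1 := by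
    unfold Curv2.deg
    have hiso : (Scheme.Modules.pullback φ).obj ((Scheme.Modules.pullback D.subschemeι).obj L) ≅
        (Scheme.Modules.pullback i).obj L :=
      (Groth.Agent.H5.Lim.pullbackCompIso φ D.subschemeι i hφ).app L
    rw [Curve.euler_iso k C hiso]
  rw [h4, h3]
  have h5 : Curv2.deg k D.subscheme ((Scheme.Modules.pullback D.subschemeι).obj L) 1 =
      Curv2.euler k S (CohB1.tensorMod (ClSub.quotMod D) L) -
        ((1 : ℕ) : ℤ) * Curv2.euler k S (ClSub.quotMod D) := h2
  rw [h5]
  simp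

end Groth.Agent.H5.NegCfg
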