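import Mathlib
import Groth.Agent.Lib.Lead.RR.SurfKit

/-!
# Finite tensor products of invertible modules and intersection numbers on a surface
-/

set_option autoImplicit false
set_option linter.style.haveILetI false
universe u
open CategoryTheory CategoryTheory.Limits AlgebraicGeometry TopologicalSpace Opposite

namespace Groth.Agent.H5.NegCfg

open Groth.Agent.LD Groth.Agent.LD.QC Groth.Agent.H5.IntN Groth.Agent.LD.RRS.Kit

/-- iterated tensor product of a finite family of modules. -/
noncomputable def tprod {X : Scheme.{u}} : (r : ℕ) → (Fin r → X.Modules) → X.Modules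
  | 0, _ => Coh.structureModule X
  | (r + 1), M => CohB1.tensorMod (M 0) (tprod r (fun i => M i.succ))

theorem isInvertible_tprod {X : Scheme.{u}} : ∀ (r : ℕ) (M : Fin r → X.Modules),
    (∀ i, PicF.IsInvertible (M i)) → PicF.IsInvertible (tprod r M)
  | 0, _, _ => PicLoc.isInvertible_structureModule X
  | (r + 1), M, hM => isInvertible_tensorMod (hM 0)
      (isInvertible_tprod r (fun i => M i.succ) (fun i => hM i.succ))

variable (k : Type u) [Field k] {X : Scheme.{u}} [X.Over (Spec (CommRingCat.of k))]
  [IsProper (X ↘ Spec (CommRingCat.of k))]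
  (hd : topologicalKrullDim X ≤ ((2 : ℕ) : WithBot ℕ∞))
include hd

/-- the structure sheaf is orthogonal to everything. -/
theorem intNum_unit_left (C : X.Modules) (hC : PicF.IsInvertible C) :
    FGA.intNum k X 2 ![Coh.structureModule X, C] (Coh.structureModule X) = 0 := by
  have hO : PicF.IsInvertible (Coh.structureModule X) := PicLoc.isInvertible_structureModule X
  have h1 := intNum_inv_left k hd (Coh.structureModule X) (Coh.structureModule X) C hO hC
    (unitorL' (Coh.structureModule X))
  linarith

/-- additivity over a finite tensor product. -/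
theorem intNum_tprod_left (C : X.Modules) (hC : PicF.IsInvertible C) :
    ∀ (r : ℕ) (M : Fin r → X.Modules), (∀ i, PicF.IsInvertible (M i)) →
      FGA.intNum k X 2 ![tprod r M, C] (Coh.structureModule X) =
        ∑ i, FGA.intNum k X 2 ![M i, C] (Coh.structureModule X)
  | 0, _, _ => by
      rw [Finset.univ_eq_empty, Finset.sum_empty]
      exact intNum_unit_left k hd C hC
  | (r + 1), M, hM => by
      change FGA.intNum k X 2 ![CohB1.tensorMod (M 0) (tprod r (fun i => M i.succ)), C] _ = _
      rw [intNum_tensor_left k hd _ _ C (hM 0)
        (isInvertible_tprod r (fun i => M i.succ) (fun i => hM i.succ)) hC,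
        intNum_tprod_left C hC r (fun i => M i.succ) (fun i => hM i.succ), Fin.sum_univ_succ]

end Groth.Agent.H5.NegCfg
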