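import Mathlib

/-!
# In a local UFD of dimension `≥ 2` the maximal ideal is not associated to `A / (f)`
-/

set_option autoImplicit false

namespace Groth.Agent.H5.NegCfg

/-- if every element of the maximal ideal of a local UFD has a power multiplying `g` into `(f)`,
while `f ∤ g`, then the maximal ideal is principal. -/
theorem maximalIdeal_isPrincipal_of_pow_mul_mem (A : Type*) [CommRing A] [IsDomain A]
    [IsLocalRing A] [UniqueFactorizationMonoid A] (f g : A) (hf : f ≠ 0) (hfg : ¬ f ∣ g)
    (h : ∀ a ∈ IsLocalRing.maximalIdeal A, ∃ n : ℕ, f ∣ a ^ n * g) :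
    ∃ q : A, IsLocalRing.maximalIdeal A = Ideal.span {q} := by
  classical
  letI : GCDMonoid A := UniqueFactorizationMonoid.toGCDMonoid A
  obtain ⟨f', g', hf', hg', hu⟩ := extract_gcd f g
  set d := gcd f g with hd
  have hd0 : d ≠ 0 := by
    intro h0
    rw [h0, zero_mul] at hf'
    exact hf hf'
  have hrel : IsRelPrime f' g' := gcd_isUnit_iff_isRelPrime.mp hu
  have hf'u : ¬ IsUnit f' := by
    intro hunit
    apply hfg
    obtain ⟨u, hu'⟩ := hunit
    rw [hf', hg', ← hu']
    exact ⟨(↑u⁻¹ : A) * g', by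
      rw [show d * (u : A) * ((↑u⁻¹ : A) * g') = d * ((u : A) * (↑u⁻¹ : A)) * g' by ring,
        Units.mul_inv, mul_one]⟩
  have hf'0 : f' ≠ 0 := by
    intro h0
    rw [h0, mul_zero] at hf'
    exact hf hf'
  obtain ⟨q, hqirr, hqf'⟩ := WfDvdMonoid.exists_irreducible_factor hf'u hf'0
  have hqprime : Prime q := UniqueFactorizationMonoid.irreducible_iff_prime.mp hqirr
  refine ⟨q, le_antisymm ?_ ?_⟩
  · intro a ha
    obtain ⟨n, c, hc⟩ := h a ha
    rw [hf', hg'] at hc
    have h1 : a ^ n * g' = f' * c := by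
      apply mul_left_cancel₀ hd0
      calc d * (a ^ n * g') = a ^ n * (d * g') := by ring
        _ = d * f' * c := hc
        _ = d * (f' * c) := by ring
    have h2 : f' ∣ a ^ n := hrel.dvd_of_dvd_mul_right ⟨c, h1⟩
    have h3 : q ∣ a := hqprime.dvd_of_dvd_pow (hqf'.trans h2)
    exact Ideal.mem_span_singleton.mpr h3
  · rw [Ideal.span_singleton_le_iff_mem]
    exact (IsLocalRing.mem_maximalIdeal q).mpr hqirr.not_isUnit

/-- a Noetherian local ring with principal maximal ideal has dimension `≤ 1`. -/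
theorem ringKrullDim_le_one_of_maximalIdeal_principal (A : Type*) [CommRing A] [IsLocalRing A]
    [IsNoetherianRing A] (q : A) (hq : IsLocalRing.maximalIdeal A = Ideal.span {q}) :
    ringKrullDim A ≤ 1 := by
  have hmin : IsLocalRing.maximalIdeal A ∈ (Ideal.span {q}).minimalPrimes := by
    rw [← hq]
    exact ⟨⟨inferInstance, le_rfl⟩, fun J hJ _ => hJ.2⟩
  have h1 := Ideal.height_le_one_of_isPrincipal_of_mem_minimalPrimes (Ideal.span {q}) _ hmin
  rw [← IsLocalRing.maximalIdeal_height_eq_ringKrullDim]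
  exact_mod_cast h1

end Groth.Agent.H5.NegCfg
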