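import Mathlib
import Groth.Agent.Lib.Helper5.NegCfg.UfdAss
import Groth.Agent.Lib.Helper2.DepthS1Sch
import Groth.Agent.Lib.Lead.QC.QuotSupp

/-!
# Closed points of a factorial surface are not associated to `O_D` for a Cartier divisor `D`
-/

set_option autoImplicit false
set_option linter.style.haveILetI false
universe u
open CategoryTheory CategoryTheory.Limits AlgebraicGeometry TopologicalSpace Opposite

namespace Groth.Agent.H5.NegCfg

open Groth.Agent.LD Groth.Agent.LD.QC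

variable {X : Scheme.{u}}

theorem not_isAssPoint_quotMod_of_ufd [IsIntegral X] [IsLocallyNoetherian X]
    (D : X.IdealSheafData) (U : X.affineOpens) (f : Γ(X, U.1)) (hf : f ≠ 0)
    (hUf : D.ideal U = Ideal.span {f}) (x : X) (hxU : x ∈ U.1)
    [UniqueFactorizationMonoid (X.presheaf.stalk x)]
    (hdim : ¬ ringKrullDim (X.presheaf.stalk x) ≤ 1) :
    ¬ Curv2.IsAssPoint (ClSub.quotMod D) x := by
  intro hass
  have hU : IsAffineOpen U.1 := U.2
  have h1 := (Groth.Agent.H2.DepthS1.isAssPoint_iff (ClSub.quotMod D) hU x hxU).mp hass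
  obtain ⟨hprime, m, hm⟩ := h1
  obtain ⟨g₀, hg₀⟩ := toSubscheme_app_surjective D U m
  let g : Γ(X, U.1) := g₀
  have hg : (ClSub.toSubscheme D).app U.1 g = m := hg₀
  rw [← hg] at hm
  set p := (hU.primeIdealOf ⟨x, hxU⟩).asIdeal with hp
  have hcolon : ∀ r : Γ(X, U.1),
      r ∈ (⊥ : Submodule Γ(X, U.1) Γ(ClSub.quotMod D, U.1)).colon
        {(ClSub.toSubscheme D).app U.1 g} ↔ f ∣ r * g := by
    intro r
    rw [Submodule.mem_colon_singleton, Submodule.mem_bot, toSubscheme_app_smul,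
      toSubscheme_app_eq_zero_iff, hUf, Ideal.mem_span_singleton]
  letI : Algebra Γ(X, U.1) (X.presheaf.stalk x) :=
    TopCat.Presheaf.algebra_section_stalk X.presheaf ⟨x, hxU⟩
  haveI : IsLocalization.AtPrime (X.presheaf.stalk x) p := hU.isLocalization_stalk ⟨x, hxU⟩
  have hinj : Function.Injective (algebraMap Γ(X, U.1) (X.presheaf.stalk x)) :=
    germ_injective_of_isIntegral X x hxU
  set φ := algebraMap Γ(X, U.1) (X.presheaf.stalk x) with hφ
  have hf' : φ f ≠ 0 := fun h => hf (hinj (h.trans (map_zero _).symm))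
  have hfg : ¬ φ f ∣ φ g := by
    rintro ⟨c, hc⟩
    obtain ⟨⟨r, s⟩, hrs⟩ := IsLocalization.surj p.primeCompl c
    have hrs' : c * φ s = φ r := hrs
    have h2 : φ ((s : Γ(X, U.1)) * g) = φ (f * r) := by
      rw [map_mul, map_mul, hc, ← hrs']; ring
    have h3 := hinj h2
    have hs : (s : Γ(X, U.1)) ∈ p := by
      apply hm.ge
      apply Ideal.le_radical
      rw [hcolon]
      exact ⟨r, h3⟩
    exact s.2 hs
  have hpow : ∀ a ∈ IsLocalRing.maximalIdeal (X.presheaf.stalk x), ∃ n : ℕ,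
      φ f ∣ a ^ n * φ g := by
    intro a ha
    obtain ⟨⟨r, s⟩, hrs⟩ := IsLocalization.surj p.primeCompl a
    have hrs' : a * φ s = φ r := hrs
    have hr : r ∈ p := by
      have h4 : φ r ∈ IsLocalRing.maximalIdeal (X.presheaf.stalk x) := by
        rw [← hrs']; exact Ideal.mul_mem_right _ _ ha
      exact (IsLocalization.AtPrime.to_map_mem_maximal_iff (X.presheaf.stalk x) p r).mp h4
    obtain ⟨n, hn⟩ := hm.le hr
    rw [hcolon] at hn
    obtain ⟨c, hc⟩ := hn
    obtain ⟨u, hu⟩ : IsUnit (φ s) := IsLocalization.map_units _ s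
    have ha' : a = φ r * ↑u⁻¹ := by
      rw [← hrs', ← hu, mul_assoc, Units.mul_inv, mul_one]
    refine ⟨n, φ c * (↑u⁻¹ : X.presheaf.stalk x) ^ n, ?_⟩
    have h5 : φ r ^ n * φ g = φ f * φ c := by
      rw [← map_pow, ← map_mul, hc, map_mul]
    rw [ha', mul_pow]
    calc φ r ^ n * (↑u⁻¹ : X.presheaf.stalk x) ^ n * φ g
        = (φ r ^ n * φ g) * (↑u⁻¹ : X.presheaf.stalk x) ^ n := by ring
      _ = φ f * (φ c * (↑u⁻¹ : X.presheaf.stalk x) ^ n) := by rw [h5]; ring
  obtain ⟨q, hq⟩ := maximalIdeal_isPrincipal_of_pow_mul_mem (X.presheaf.stalk x) (φ f) (φ g) hf'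
    hfg hpow
  exact hdim (ringKrullDim_le_one_of_maximalIdeal_principal _ q hq)

end Groth.Agent.H5.NegCfg
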