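import Mathlib
import Groth.Agent.Lib.Helper5.NegCfg.Core

/-!
# Negative definite configurations: the three abstract facts
-/

set_option autoImplicit false
set_option linter.style.haveILetI false
universe u
open CategoryTheory CategoryTheory.Limits AlgebraicGeometry TopologicalSpace Opposite

namespace Groth.Agent.H5.NegCfg

open Groth.Agent.LD Groth.Agent.LD.QC Groth.Agent.H5.IntN Groth.Agent.H5.NumRS

variable (k : Type u) [Field k] (X : Scheme.{u}) [X.Over (Spec (CommRingCat.of k))]
  [IsProper (X ↘ Spec (CommRingCat.of k))] [IsIntegral X]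

/-- the Gram matrix of a family of ideal sheaves. -/
noncomputable def gram {r : ℕ} (C : Fin r → X.IdealSheafData) : Fin r → Fin r → ℤ :=
  fun i j => FGA.intNum k X 2 ![ClSub.idealMod (C i), ClSub.idealMod (C j)]
    (Coh.structureModule X)

section
variable (hdim : topologicalKrullDim X = 2)
  (hreg : ∀ x : X, IsRegularLocalRing (X.presheaf.stalk x))
  {r : ℕ} (C : Fin r → X.IdealSheafData) (hC : Function.Injective C)
  (hCi : ∀ i, IsIntegral (C i).subscheme)
  (hCd : ∀ i, topologicalKrullDim ((C i).support : Set X) = 1)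
include hdim hreg hCi hCd

include k in
theorem isInvertible_curve (i : Fin r) : PicF.IsInvertible (ClSub.idealMod (C i)) :=
  (isInvertible_idealMod_of_curve k X hdim hreg (C i) (hCi i) (hCd i)).2

include k in
theorem isEffCartier_curve (i : Fin r) : BlowUp.IsEffCartierIdeal (C i) :=
  (isInvertible_idealMod_of_curve k X hdim hreg (C i) (hCi i) (hCd i)).1

include hC in
theorem gram_off_nonneg (i j : Fin r) (hij : i ≠ j) : 0 ≤ gram k X C i j :=
  intNum_curves_nonneg k X hdim (C i) (C j) (hCi i) (hCi j) (hCd i) (hCd j)
    (isInvertible_curve k X hdim hreg C hCi hCd i) (isInvertible_curve k X hdim hreg C hCi hCd j)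
    (fun h => hij (hC h))

theorem curve_ample_neg (H : X.Modules) (hH : CohB1.IsAmple H) (i : Fin r) :
    FGA.intNum k X 2 ![ClSub.idealMod (C i), H] (Coh.structureModule X) < 0 := by
  rw [Groth.Agent.LD.RRS.Kit.intNum_comm k _ _ (isInvertible_curve k X hdim hreg C hCi hCd i) hH.1]
  exact intNum_ample_idealMod_neg k X hdim H hH (C i)
    (isEffCartier_curve k X hdim hreg C hCi hCd i) (hCd i)

end

end Groth.Agent.H5.NegCfg
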