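import Mathlib
import Groth.Agent.Lib.Helper5.NegCfg.IntLem

/-!
# Solving `G s = m t` over the integers for a negative definite matrix
-/

set_option autoImplicit false
open Finset

namespace Groth.Agent.H5.NegCfg

theorem det_ne_zero_of_negDef {r : ℕ} (G : Matrix (Fin r) (Fin r) ℤ)
    (hneg : ∀ a : Fin r → ℤ, a ≠ 0 → ∑ i, ∑ j, a i * a j * G i j < 0) : G.det ≠ 0 := by
  intro h0
  obtain ⟨a, hane, hag⟩ := Matrix.exists_vecMul_eq_zero_iff.mpr h0
  have h1 := hneg a hane
  have h2 : ∑ i, ∑ j, a i * a j * G i j = 0 := by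
    rw [Finset.sum_comm]
    apply Finset.sum_eq_zero
    intro j _
    have h3 := congrFun hag j
    simp only [Matrix.vecMul, dotProduct, Pi.zero_apply] at h3
    have : ∑ i, a i * a j * G i j = a j * ∑ i, a i * G i j := by
      rw [Finset.mul_sum]
      apply Finset.sum_congr rfl
      intro i _
      ring
    rw [this, h3, mul_zero]
  rw [h2] at h1
  exact lt_irrefl _ h1

/-- for a symmetric negative definite integer matrix with nonnegative off-diagonal entries and
`t ≤ 0` there are `m > 0` and `s ≥ 0` with `s G = m t`. -/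
theorem exists_int_solution {r : ℕ} (G : Fin r → Fin r → ℤ) (hsymm : ∀ i j, G i j = G j i)
    (hoff : ∀ i j, i ≠ j → 0 ≤ G i j)
    (hneg : ∀ a : Fin r → ℤ, a ≠ 0 → ∑ i, ∑ j, a i * a j * G i j < 0)
    (t : Fin r → ℤ) (ht : ∀ j, t j ≤ 0) :
    ∃ (m : ℤ) (s : Fin r → ℤ), 0 < m ∧ (∀ i, 0 ≤ s i) ∧ ∀ j, ∑ i, s i * G i j = m * t j := by
  classical
  let A : Matrix (Fin r) (Fin r) ℤ := Matrix.of G
  have hA : ∀ i j, A i j = G i j := fun i j => rfl
  have hdet : A.det ≠ 0 := det_ne_zero_of_negDef A hneg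
  set s' : Fin r → ℤ := (Matrix.adjugate A).mulVec t with hs'
  have h1 : A.mulVec s' = A.det • t := by
    rw [hs', Matrix.mulVec_mulVec, Matrix.mul_adjugate, Matrix.smul_mulVec, Matrix.one_mulVec]
  have h2 : ∀ j, ∑ i, s' i * G i j = A.det * t j := by
    intro j
    have := congrFun h1 j
    simp only [Matrix.mulVec, dotProduct, Pi.smul_apply, smul_eq_mul] at this
    rw [← this]
    apply Finset.sum_congr rfl
    intro i _
    rw [hA, hsymm j i]
    ring
  rcases lt_or_gt_of_ne hdet with hlt | hgt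
  · refine ⟨-A.det, fun i => - s' i, by omega, ?_, ?_⟩
    · refine nonneg_of_solve_int G hoff hneg (fun i => - s' i) (fun j => -A.det * t j) ?_ ?_
      · intro j
        exact mul_nonpos_of_nonneg_of_nonpos (by omega) (ht j)
      · intro j
        simp only [neg_mul, Finset.sum_neg_distrib, h2 j]
    · intro j
      simp only [neg_mul, Finset.sum_neg_distrib, h2 j]
  · refine ⟨A.det, s', hgt, ?_, h2⟩
    refine nonneg_of_solve_int G hoff hneg s' (fun j => A.det * t j) ?_ h2
    intro j
    exact mul_nonpos_of_nonneg_of_nonpos hgt.le (ht j)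

end Groth.Agent.H5.NegCfg
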