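import Mathlib
import Groth.Agent.Lib.Lead.QC.QuotSupp
import Groth.Agent.Lib.Lead.QC.TensorQC
import Groth.Agent.Lib.Lead.QC.Stalk

/-!
# Sections and stalk lengths of `O/I ⊗ O/J` and `O/(I+J)`
-/

set_option autoImplicit false
set_option linter.style.haveILetI false
universe u
open CategoryTheory CategoryTheory.Limits AlgebraicGeometry TopologicalSpace Opposite TensorProduct

namespace Groth.Agent.H5.NegCfg

open Groth.Agent.LD Groth.Agent.LD.QC

section algebra

variable {R : Type*} [CommRing R]

/-- `R/I ⊗ R/J ≃ R/(I + J)`. -/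
noncomputable def quotTensorQuotEquiv (I J : Ideal R) :
    ((R ⧸ I) ⊗[R] (R ⧸ J)) ≃ₗ[R] (R ⧸ (I ⊔ J)) := by
  have hle : (J : Submodule R R) ≤ (I ⊔ J : Ideal R) := le_sup_right
  have h1 : (I • (⊤ : Submodule R (R ⧸ J))) =
      Submodule.map (Submodule.mkQ (J : Submodule R R)) (I ⊔ J : Ideal R) := by
    have htop : (⊤ : Submodule R (R ⧸ J)) =
        Submodule.map (Submodule.mkQ (J : Submodule R R)) ⊤ := by
      rw [Submodule.map_top, Submodule.range_mkQ]
    rw [htop, ← Submodule.map_smul'', Submodule.map_sup, Submodule.mkQ_map_self, sup_bot_eq]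
    congr 1
    exact Ideal.mul_top I
  exact (TensorProduct.quotTensorEquivQuotSMul (R ⧸ J) I).trans
    ((Submodule.quotEquivOfEq _ _ h1).trans
      (Submodule.quotientQuotientEquivQuotient (J : Submodule R R) (I ⊔ J : Ideal R) hle))

end algebra

variable {X : Scheme.{u}}

/-- the structure map `O(U) → (O/I)(U)` as a linear map. -/
noncomputable def toSubschemeLin (I : X.IdealSheafData) (U : X.affineOpens) :
    Γ(X, U.1) →ₗ[Γ(X, U.1)] Γ(ClSub.quotMod I, U.1) where
  toFun s := (ClSub.toSubscheme I).app U.1 s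
  map_add' a b := map_add _ a b
  map_smul' r s := by
    rw [RingHom.id_apply, toSubscheme_app_smul]
    rfl

/-- sections of `O/I` over an affine open. -/
noncomputable def quotSecEquiv (I : X.IdealSheafData) (U : X.affineOpens) :
    (Γ(X, U.1) ⧸ I.ideal U) ≃ₗ[Γ(X, U.1)] Γ(ClSub.quotMod I, U.1) := by
  have hker : LinearMap.ker (toSubschemeLin I U) = I.ideal U := by
    ext s
    rw [LinearMap.mem_ker]
    exact toSubscheme_app_eq_zero_iff I U s
  have hsurj : Function.Surjective (toSubschemeLin I U) := toSubscheme_app_surjective I U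
  exact (Submodule.quotEquivOfEq _ _ hker.symm).trans
    (LinearMap.quotKerEquivOfSurjective (toSubschemeLin I U) hsurj)

/-- sections of `O/I ⊗ O/J` and of `O/(I + J)` over an affine open agree. -/
noncomputable def tensorQuotSecEquiv (I J : X.IdealSheafData) (U : X.affineOpens) :
    Γ(CohB1.tensorMod (ClSub.quotMod I) (ClSub.quotMod J), U.1) ≃ₗ[Γ(X, U.1)]
      Γ(ClSub.quotMod (I ⊔ J), U.1) :=
  (tensorSecEquiv (ClSub.quotMod I) (ClSub.quotMod J) U.2).symm.trans
    ((TensorProduct.congr (quotSecEquiv I U).symm (quotSecEquiv J U).symm).trans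
      ((quotTensorQuotEquiv (I.ideal U) (J.ideal U)).trans (quotSecEquiv (I ⊔ J) U)))

/-- **stalk lengths only depend on the sections over an affine neighbourhood.** -/
theorem length_stalk_eq_of_sections (M N : X.Modules) [M.IsQuasicoherent] [N.IsQuasicoherent]
    {U : X.Opens} (hU : IsAffineOpen U) (x : X) (hx : x ∈ U)
    (e : Γ(M, U) ≃ₗ[Γ(X, U)] Γ(N, U)) :
    Module.length (X.presheaf.stalk x) (M.presheaf.stalk x) =
      Module.length (X.presheaf.stalk x) (N.presheaf.stalk x) := by
  letI : Algebra Γ(X, U) (X.presheaf.stalk x) :=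
    TopCat.Presheaf.algebra_section_stalk X.presheaf ⟨x, hx⟩
  letI := stalkΓModule M x U hx
  letI := stalkΓModule N x U hx
  haveI := isLocalizedModule_germ M hU x hx
  haveI := isLocalizedModule_germ N hU x hx
  haveI : IsScalarTower Γ(X, U) (X.presheaf.stalk x) (M.presheaf.stalk x) :=
    IsScalarTower.of_algebraMap_smul (fun r m => rfl)
  haveI : IsScalarTower Γ(X, U) (X.presheaf.stalk x) (N.presheaf.stalk x) :=
    IsScalarTower.of_algebraMap_smul (fun r m => rfl)
  haveI : IsLocalization.AtPrime (X.presheaf.stalk x) (hU.primeIdealOf ⟨x, hx⟩).asIdeal :=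
    hU.isLocalization_stalk ⟨x, hx⟩
  let S := (hU.primeIdealOf ⟨x, hx⟩).asIdeal.primeCompl
  haveI : IsLocalizedModule S ((germLinear N x U hx) ∘ₗ e.toLinearMap) :=
    IsLocalizedModule.of_linearEquiv_right S (germLinear N x U hx) e
  let ε : M.presheaf.stalk x ≃ₗ[Γ(X, U)] N.presheaf.stalk x :=
    IsLocalizedModule.linearEquiv S (germLinear M x U hx)
      ((germLinear N x U hx) ∘ₗ e.toLinearMap)
  exact (LinearEquiv.extendScalarsOfIsLocalization S (X.presheaf.stalk x) ε).length_eq

/-- the stalks of `O/I ⊗ O/J` and `O/(I+J)` have the same length. -/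
theorem length_stalk_tensor_quotMod (I J : X.IdealSheafData) (x : X) :
    Module.length (X.presheaf.stalk x)
        ((CohB1.tensorMod (ClSub.quotMod I) (ClSub.quotMod J)).presheaf.stalk x) =
      Module.length (X.presheaf.stalk x) ((ClSub.quotMod (I ⊔ J)).presheaf.stalk x) := by
  obtain ⟨U, hU, hxU, -⟩ := exists_isAffineOpen_mem_and_subset (x := x) (U := ⊤) trivial
  exact length_stalk_eq_of_sections _ _ hU x hxU (tensorQuotSecEquiv I J ⟨U, hU⟩)

end Groth.Agent.H5.NegCfg
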