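import Mathlib
import Groth.Agent.Lib.Helper5.NegCfg.AssUfd
import Groth.Agent.Lib.Helper5.NegCfg.QuotSec
import Groth.Agent.Lib.Helper5.NegCfg.DimCart
import Groth.Agent.Lib.Helper5.NumRS.Pair
import Groth.Agent.Lib.Helper5.IntN.Cyc
import Groth.Agent.Lib.Helper5.IntN.Cartier
import Groth.Agent.Lib.Helper3.CA.ABufd2
import Groth.Agent.Lib.Helper3.AssSupp
import Groth.Agent.Lib.Helper2.SuppTensor
import Groth.Agent.Lib.Lead.Curve.Torsion

/-!
# The intersection number of two curves without common component is the length of their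
scheme-theoretic intersection (S11340)
-/

set_option autoImplicit false
set_option linter.style.haveILetI false
universe u
open CategoryTheory CategoryTheory.Limits AlgebraicGeometry TopologicalSpace Opposite

namespace Groth.Agent.H5.NegCfg

open Groth.Agent.LD Groth.Agent.LD.QC Groth.Agent.H5.IntN Groth.Agent.H5.NumRS
  Groth.Agent.H5.Snap

/-- a finite closed subset of a Jacobson space consists of closed points and has dimension
`≤ 0`. -/
theorem finite_closed_facts {T : Type*} [TopologicalSpace T] [JacobsonSpace T] (S : Set T)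
    (hS : IsClosed S) (hfin : S.Finite) :
    (∀ x ∈ S, IsClosed ({x} : Set T)) ∧ topologicalKrullDim S ≤ 0 := by
  haveI : JacobsonSpace S := JacobsonSpace.of_isClosedEmbedding hS.isClosedEmbedding_subtypeVal
  haveI : Finite S := hfin.to_subtype
  refine ⟨fun x hx => ?_, topologicalKrullDim_zero_of_discreteTopology S⟩
  have h1 : IsClosed ({⟨x, hx⟩} : Set S) := isClosed_discrete _
  have h2 := hS.isClosedEmbedding_subtypeVal.isClosedMap _ h1
  simpa using h2

/-- the closure of a closed point has dimension zero. -/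
theorem dim_closure_of_isClosed {T : Type*} [TopologicalSpace T] (x : T)
    (hx : IsClosed ({x} : Set T)) :
    topologicalKrullDim ↥(closure ({x} : Set T)) = ((0 : ℕ) : WithBot ℕ∞) := by
  rw [hx.closure_eq]
  haveI : Unique ({x} : Set T) := Set.uniqueSingleton x
  apply le_antisymm
  · exact topologicalKrullDim_zero_of_discreteTopology _
  · haveI : IrreducibleSpace ({x} : Set T) := Subtype.irreducibleSpace isIrreducible_singleton
    haveI : Nonempty (IrreducibleCloseds ({x} : Set T)) :=
      ⟨⟨Set.univ, (IrreducibleSpace.isIrreducible_univ _), isClosed_univ⟩⟩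
    exact Order.krullDim_nonneg

variable (k : Type u) [Field k] (X : Scheme.{u}) [X.Over (Spec (CommRingCat.of k))]
  [IsProper (X ↘ Spec (CommRingCat.of k))] [IsIntegral X]

theorem intNum_eq_finrank_inter (hdim : topologicalKrullDim X = 2)
    (hreg : ∀ x : X, IsRegularLocalRing (X.presheaf.stalk x))
    (IC ID : X.IdealSheafData) (hC : BlowUp.IsEffCartierIdeal IC)
    (hD : BlowUp.IsEffCartierIdeal ID)
    (hfin : ((IC ⊔ ID).support : Set X).Finite) :
    FGA.intNum k X 2 ![ClSub.idealMod IC, ClSub.idealMod ID] (Coh.structureModule X) =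
      (Module.finrank k (Coh.HH X (ClSub.quotMod (IC ⊔ ID)) 0) : ℤ) := by
  classical
  haveI : IsNoetherian X := Groth.Agent.H5.Curve2.isNoetherian_of_proper k X
  haveI : JacobsonSpace X := LocallyOfFiniteType.jacobsonSpace (X ↘ Spec (CommRingCat.of k))
  have hd2 : topologicalKrullDim X ≤ ((2 : ℕ) : WithBot ℕ∞) := by rw [hdim]; rfl
  have hOc : Coh.IsCoh (Coh.structureModule X) := Groth.Agent.LD.PF.isCoh_unitMod X
  have hIinv : PicF.IsInvertible (ClSub.idealMod IC) := (isInvertible_idealMod_iff IC).mpr hC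
  obtain ⟨hclosed, hdim0⟩ := finite_closed_facts ((IC ⊔ ID).support : Set X)
    (IC ⊔ ID).support.isClosed hfin
  have hsuppeq : ((IC ⊔ ID).support : Set X) = (ID.support : Set X) ∩ (IC.support : Set X) := by
    rw [Scheme.IdealSheafData.support_sup, Set.inter_comm]
    rfl
  -- nonzero local equations
  have hne : ∀ (D : X.IdealSheafData), BlowUp.IsEffCartierIdeal D → D ≠ ⊥ := by
    intro D hD h0
    obtain ⟨x⟩ : Nonempty X := inferInstance
    obtain ⟨U, hxU, f, hf, hUf⟩ := hD x
    haveI : Nonempty U.1 := ⟨⟨x, hxU⟩⟩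
    haveI : Nontrivial Γ(X, U.1) := inferInstance
    have hf0 : f ≠ 0 := nonZeroDivisors.ne_zero hf
    rw [h0] at hUf
    have h1 : f ∈ (⊥ : X.IdealSheafData).ideal U := by
      rw [hUf]; exact Ideal.mem_span_singleton_self f
    exact hf0 (by simpa using h1)
  -- first reduction
  have h1 := intNum_snoc_idealMod k 2 hd2 (fun _ : Fin 1 => ClSub.idealMod IC) (fun _ => hIinv)
    (Coh.structureModule X) hOc ID hD
    (fun x hx => not_isAssPoint_unit_of_mem_support ID (hne ID hD) x hx)
  have hsn : (Fin.snoc (fun _ : Fin 1 => ClSub.idealMod IC) (ClSub.idealMod ID) :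
      Fin 2 → X.Modules) = ![ClSub.idealMod IC, ClSub.idealMod ID] := by
    funext i
    fin_cases i <;> rfl
  rw [hsn] at h1
  rw [h1, intNum_iso k 2 (fun _ : Fin 1 => ClSub.idealMod IC) (unitorL' (ClSub.quotMod ID))]
  -- second reduction
  have hass : ∀ x ∈ IC.support, ¬ Curv2.IsAssPoint (ClSub.quotMod ID) x := by
    intro x hx hassx
    have hnt := Groth.Agent.H3.AssSupp.nontrivial_stalk_of_isAssPoint _ x hassx
    have hxD : x ∈ (ID.support : Set X) := by
      rw [← support_quotMod ID]
      exact not_subsingleton_iff_nontrivial.mpr hnt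
    have hxS : x ∈ ((IC ⊔ ID).support : Set X) := by
      rw [hsuppeq]; exact ⟨hxD, hx⟩
    have hxcl := hclosed x hxS
    have h2 := ringKrullDim_stalk_of_isClosed k X hdim x hxcl
    obtain ⟨U, hxU, f, hf, hUf⟩ := hD x
    haveI : Nonempty U.1 := ⟨⟨x, hxU⟩⟩
    haveI : Nontrivial Γ(X, U.1) := inferInstance
    haveI := hreg x
    obtain ⟨-, hufd⟩ := Groth.Agent.H3.ABufd.main (X.presheaf.stalk x)
    haveI := hufd
    refine not_isAssPoint_quotMod_of_ufd ID U f (nonZeroDivisors.ne_zero hf) hUf x hxU ?_ hassx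
    rw [h2]
    decide
  let M₀ : Fin 0 → X.Modules := fun i => i.elim0
  have hQD : Coh.IsCoh (ClSub.quotMod ID) := isCoh_quotMod ID
  have hQC : Coh.IsCoh (ClSub.quotMod IC) := isCoh_quotMod IC
  have h5 := intNum_snoc_idealMod k 2 hd2 M₀ (fun i => i.elim0) (ClSub.quotMod ID) hQD IC hC hass
  have hsn0 : (Fin.snoc M₀ (ClSub.idealMod IC) : Fin 1 → X.Modules) =
      fun _ : Fin 1 => ClSub.idealMod IC := by
    funext i
    fin_cases i
    rfl
  rw [hsn0] at h5
  rw [h5]
  -- compare the two zero-dimensional modules through their stalk lengths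
  set T₁ := CohB1.tensorMod (ClSub.quotMod ID) (ClSub.quotMod IC) with hT₁
  set T₂ := ClSub.quotMod (IC ⊔ ID) with hT₂
  have hT₁c : Coh.IsCoh T₁ := Groth.Agent.H5.DegC.isCoh_tensorMod' hQD hQC
  have hT₂c : Coh.IsCoh T₂ := isCoh_quotMod _
  have hs₁ : CohB1.support T₁ = ((IC ⊔ ID).support : Set X) := by
    rw [hsuppeq]
    ext x
    haveI := hQD.1
    haveI := hQC.1
    constructor
    · intro hx
      have h6 := (Groth.Agent.H2.SuppTensor.support_tensorMod _ _ hQD.2 hQC.2 x).mp hx
      constructor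
      · have : x ∈ CohB1.support (ClSub.quotMod ID) := h6.1
        rwa [support_quotMod] at this
      · have : x ∈ CohB1.support (ClSub.quotMod IC) := h6.2
        rwa [support_quotMod] at this
    · rintro ⟨hxD, hxC⟩
      apply (Groth.Agent.H2.SuppTensor.support_tensorMod _ _ hQD.2 hQC.2 x).mpr
      constructor
      · have : x ∈ CohB1.support (ClSub.quotMod ID) := by rw [support_quotMod]; exact hxD
        exact this
      · have : x ∈ CohB1.support (ClSub.quotMod IC) := by rw [support_quotMod]; exact hxC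
        exact this
  have hs₂ : CohB1.support T₂ = ((IC ⊔ ID).support : Set X) := support_quotMod _
  have hdimT : ∀ T : X.Modules, CohB1.support T = ((IC ⊔ ID).support : Set X) →
      topologicalKrullDim ↥(CohB1.support T) ≤ ((0 : ℕ) : WithBot ℕ∞) := by
    intro T hT
    rw [hT]
    exact hdim0
  have hs : ∀ T : X.Modules, CohB1.support T = ((IC ⊔ ID).support : Set X) →
      ∀ ξ : X, ξ ∈ hfin.toFinset ↔
        ξ ∈ CohB1.support T ∧ topologicalKrullDim ↥(closure ({ξ} : Set X)) = ((0 : ℕ) : WithBot ℕ∞) := by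
    intro T hT ξ
    rw [Set.Finite.mem_toFinset, hT]
    exact ⟨fun h => ⟨h, dim_closure_of_isClosed ξ (hclosed ξ h)⟩, fun h => h.1⟩
  have e1 := intNum_eq_sum_components k 2 hd2 M₀ (fun i => i.elim0) T₁ hT₁c (hdimT T₁ hs₁)
    hfin.toFinset (hs T₁ hs₁)
  have e2 := intNum_eq_sum_components k 2 hd2 M₀ (fun i => i.elim0) T₂ hT₂c (hdimT T₂ hs₂)
    hfin.toFinset (hs T₂ hs₂)
  have hlen : ∀ ξ : X, Module.length (X.presheaf.stalk ξ) (T₁.presheaf.stalk ξ) =
      Module.length (X.presheaf.stalk ξ) (T₂.presheaf.stalk ξ) := by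
    intro ξ
    rw [hT₁, hT₂, sup_comm IC ID]
    exact length_stalk_tensor_quotMod ID IC ξ
  have e3 : FGA.intNum k X 2 M₀ T₁ = FGA.intNum k X 2 M₀ T₂ := by
    rw [e1, e2]
    apply Finset.sum_congr rfl
    intro ξ _
    rw [hlen ξ]
  rw [e3, intNum_zero, eulerCharLE_eq_euler k 2 hd2 T₂ hT₂c]
  apply Groth.Agent.LD.Curve.euler_of_support_closed_points k X T₂ hT₂c
  intro x hx
  have : x ∈ CohB1.support T₂ := hx
  rw [hs₂] at this
  exact hclosed x this

end Groth.Agent.H5.NegCfg
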