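import Mathlib
import Groth.Agent.Lib.Helper5.NegCfg.LocInt
import Groth.Agent.Lib.Helper5.Snap.DimComp
import Groth.Agent.Lib.Helper6.DepthOne
import Groth.Agent.Lib.Helper2.SmCodepth
import Groth.Agent.Lib.Helper1.RelDim
import Groth.Agent.Lib.Helper1.DimFormula3

/-!
# Intersection numbers of Cartier divisors on a Cohen–Macaulay surface (S7871)
-/

set_option autoImplicit false
set_option linter.style.haveILetI false
universe u
open CategoryTheory CategoryTheory.Limits AlgebraicGeometry TopologicalSpace Opposite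

namespace Groth.Agent.H5.NegCfg

open Groth.Agent.LD Groth.Agent.LD.QC Groth.Agent.H5.IntN Groth.Agent.H5.NumRS
  Groth.Agent.H5.Snap

/-- the points of an effective Cartier divisor are not associated points of the structure
sheaf. -/
theorem not_isAssPoint_unit_of_effCartier {X : Scheme.{u}} (D : X.IdealSheafData)
    (hD : BlowUp.IsEffCartierIdeal D) (x : X) (hx : x ∈ D.support) :
    ¬ Curv2.IsAssPoint (unitMod X) x := by
  intro hass
  obtain ⟨e⟩ := Groth.Agent.LD.RRS.SP.nonempty_unit_stalk_equiv x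
  have h1 : IsAssociatedPrime (IsLocalRing.maximalIdeal (X.presheaf.stalk x))
      (X.presheaf.stalk x) := (LinearEquiv.isAssociatedPrime_iff e).mp hass
  obtain ⟨-, r, hr⟩ := h1
  obtain ⟨U, hxU, f, hf, hUf⟩ := hD x
  have hU : IsAffineOpen U.1 := U.2
  letI : Algebra Γ(X, U.1) (X.presheaf.stalk x) :=
    TopCat.Presheaf.algebra_section_stalk X.presheaf ⟨x, hxU⟩
  haveI hloc : IsLocalization.AtPrime (X.presheaf.stalk x)
      (hU.primeIdealOf ⟨x, hxU⟩).asIdeal := hU.isLocalization_stalk ⟨x, hxU⟩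
  have hfp : f ∈ (hU.primeIdealOf ⟨x, hxU⟩).asIdeal := by
    by_contra hnot
    have h3 := (Scheme.IdealSheafData.mem_support_iff_of_mem (U := U) hxU).mp hx
    rw [Scheme.mem_zeroLocus_iff] at h3
    have hfD : f ∈ D.ideal U := by rw [hUf]; exact Ideal.mem_span_singleton_self f
    exact h3 f hfD ((Groth.Agent.H5.Curve3.mem_basicOpen_iff_notMem_primeIdealOf hU f x hxU).mpr hnot)
  have h4 : algebraMap Γ(X, U.1) (X.presheaf.stalk x) f ∈
      IsLocalRing.maximalIdeal (X.presheaf.stalk x) :=
    (IsLocalization.AtPrime.to_map_mem_maximal_iff (X.presheaf.stalk x)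
      (hU.primeIdealOf ⟨x, hxU⟩).asIdeal f).mpr hfp
  have h5 : algebraMap Γ(X, U.1) (X.presheaf.stalk x) f ∈ nonZeroDivisors (X.presheaf.stalk x) :=
    IsLocalization.map_nonZeroDivisors_le (hU.primeIdealOf ⟨x, hxU⟩).asIdeal.primeCompl
      (X.presheaf.stalk x) (Submonoid.mem_map_of_mem _ hf)
  rw [hr, Ideal.mem_radical_iff] at h4
  obtain ⟨n, hn⟩ := h4
  rw [Submodule.mem_colon_singleton, Submodule.mem_bot, smul_eq_mul] at hn
  have hr0 : r = 0 := (mem_nonZeroDivisors_iff.mp (pow_mem h5 n)).1 r hn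
  subst hr0
  have : (1 : X.presheaf.stalk x) ∈ IsLocalRing.maximalIdeal (X.presheaf.stalk x) := by
    rw [hr, Ideal.mem_radical_iff]
    exact ⟨1, by rw [Submodule.mem_colon_singleton]; simp⟩
  exact (IsLocalRing.maximalIdeal.isMaximal _).ne_top ((Ideal.eq_top_iff_one _).mpr this)

section core

variable (k : Type u) [Field k] (X : Scheme.{u}) [X.Over (Spec (CommRingCat.of k))]
  [IsProper (X ↘ Spec (CommRingCat.of k))]

/-- the core computation: on a proper scheme of dimension `≤ 2`, two effective Cartier divisors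
meeting in a finite set, the second having no embedded point on the first, have intersection
number the length of their scheme theoretic intersection. -/
theorem intNum_eq_finrank_inter' (hd2 : topologicalKrullDim X ≤ ((2 : ℕ) : WithBot ℕ∞))
    (IC ID : X.IdealSheafData) (hC : BlowUp.IsEffCartierIdeal IC)
    (hD : BlowUp.IsEffCartierIdeal ID)
    (hfin : ((IC ⊔ ID).support : Set X).Finite)
    (hass : ∀ x ∈ IC.support, ¬ Curv2.IsAssPoint (ClSub.quotMod ID) x) :
    FGA.intNum k X 2 ![ClSub.idealMod IC, ClSub.idealMod ID] (Coh.structureModule X) =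
      (Module.finrank k (Coh.HH X (ClSub.quotMod (IC ⊔ ID)) 0) : ℤ) := by
  classical
  haveI : IsNoetherian X := Groth.Agent.H5.Curve2.isNoetherian_of_proper k X
  haveI : JacobsonSpace X := LocallyOfFiniteType.jacobsonSpace (X ↘ Spec (CommRingCat.of k))
  have hOc : Coh.IsCoh (Coh.structureModule X) := Groth.Agent.LD.PF.isCoh_unitMod X
  have hIinv : PicF.IsInvertible (ClSub.idealMod IC) := (isInvertible_idealMod_iff IC).mpr hC
  obtain ⟨hclosed, hdim0⟩ := finite_closed_facts ((IC ⊔ ID).support : Set X)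
    (IC ⊔ ID).support.isClosed hfin
  have hsuppeq : ((IC ⊔ ID).support : Set X) = (ID.support : Set X) ∩ (IC.support : Set X) := by
    rw [Scheme.IdealSheafData.support_sup, Set.inter_comm]
    rfl
  -- first reduction
  have h1 := intNum_snoc_idealMod k 2 hd2 (fun _ : Fin 1 => ClSub.idealMod IC) (fun _ => hIinv)
    (Coh.structureModule X) hOc ID hD
    (fun x hx => not_isAssPoint_unit_of_effCartier ID hD x hx)
  have hsn : (Fin.snoc (fun _ : Fin 1 => ClSub.idealMod IC) (ClSub.idealMod ID) :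
      Fin 2 → X.Modules) = ![ClSub.idealMod IC, ClSub.idealMod ID] := by
    funext i
    fin_cases i <;> rfl
  rw [hsn] at h1
  rw [h1, intNum_iso k 2 (fun _ : Fin 1 => ClSub.idealMod IC) (unitorL' (ClSub.quotMod ID))]
  -- second reduction
  let M₀ : Fin 0 → X.Modules := fun i => i.elim0
  have hQD : Coh.IsCoh (ClSub.quotMod ID) := isCoh_quotMod ID
  have hQC : Coh.IsCoh (ClSub.quotMod IC) := isCoh_quotMod IC
  have h5 := intNum_snoc_idealMod k 2 hd2 M₀ (fun i => i.elim0) (ClSub.quotMod ID) hQD IC hC hass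
  have hsn0 : (Fin.snoc M₀ (ClSub.idealMod IC) : Fin 1 → X.Modules) =
      fun _ : Fin 1 => ClSub.idealMod IC := by
    funext i
    fin_cases i
    rfl
  rw [hsn0] at h5
  rw [h5]
  -- compare the two zero-dimensional modules through their stalk lengths
  set T₁ := CohB1.tensorMod (ClSub.quotMod ID) (ClSub.quotMod IC) with hT₁
  set T₂ := ClSub.quotMod (IC ⊔ ID) with hT₂
  have hT₁c : Coh.IsCoh T₁ := Groth.Agent.H5.DegC.isCoh_tensorMod' hQD hQC
  have hT₂c : Coh.IsCoh T₂ := isCoh_quotMod _
  have hs₁ : CohB1.support T₁ = ((IC ⊔ ID).support : Set X) := by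
    rw [hsuppeq]
    ext x
    haveI := hQD.1
    haveI := hQC.1
    constructor
    · intro hx
      have h6 := (Groth.Agent.H2.SuppTensor.support_tensorMod _ _ hQD.2 hQC.2 x).mp hx
      constructor
      · have : x ∈ CohB1.support (ClSub.quotMod ID) := h6.1
        rwa [support_quotMod] at this
      · have : x ∈ CohB1.support (ClSub.quotMod IC) := h6.2
        rwa [support_quotMod] at this
    · rintro ⟨hxD, hxC⟩
      apply (Groth.Agent.H2.SuppTensor.support_tensorMod _ _ hQD.2 hQC.2 x).mpr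
      constructor
      · have : x ∈ CohB1.support (ClSub.quotMod ID) := by rw [support_quotMod]; exact hxD
        exact this
      · have : x ∈ CohB1.support (ClSub.quotMod IC) := by rw [support_quotMod]; exact hxC
        exact this
  have hs₂ : CohB1.support T₂ = ((IC ⊔ ID).support : Set X) := support_quotMod _
  have hdimT : ∀ T : X.Modules, CohB1.support T = ((IC ⊔ ID).support : Set X) →
      topologicalKrullDim ↥(CohB1.support T) ≤ ((0 : ℕ) : WithBot ℕ∞) := by
    intro T hT
    rw [hT]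
    exact hdim0
  have hs : ∀ T : X.Modules, CohB1.support T = ((IC ⊔ ID).support : Set X) →
      ∀ ξ : X, ξ ∈ hfin.toFinset ↔
        ξ ∈ CohB1.support T ∧ topologicalKrullDim ↥(closure ({ξ} : Set X)) = ((0 : ℕ) : WithBot ℕ∞) := by
    intro T hT ξ
    rw [Set.Finite.mem_toFinset, hT]
    exact ⟨fun h => ⟨h, dim_closure_of_isClosed ξ (hclosed ξ h)⟩, fun h => h.1⟩
  have e1 := intNum_eq_sum_components k 2 hd2 M₀ (fun i => i.elim0) T₁ hT₁c (hdimT T₁ hs₁)
    hfin.toFinset (hs T₁ hs₁)
  have e2 := intNum_eq_sum_components k 2 hd2 M₀ (fun i => i.elim0) T₂ hT₂c (hdimT T₂ hs₂)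
    hfin.toFinset (hs T₂ hs₂)
  have hlen : ∀ ξ : X, Module.length (X.presheaf.stalk ξ) (T₁.presheaf.stalk ξ) =
      Module.length (X.presheaf.stalk ξ) (T₂.presheaf.stalk ξ) := by
    intro ξ
    rw [hT₁, hT₂, sup_comm IC ID]
    exact length_stalk_tensor_quotMod ID IC ξ
  have e3 : FGA.intNum k X 2 M₀ T₁ = FGA.intNum k X 2 M₀ T₂ := by
    rw [e1, e2]
    apply Finset.sum_congr rfl
    intro ξ _
    rw [hlen ξ]
  rw [e3, intNum_zero, eulerCharLE_eq_euler k 2 hd2 T₂ hT₂c]
  apply Groth.Agent.LD.Curve.euler_of_support_closed_points k X T₂ hT₂c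
  intro x hx
  have : x ∈ CohB1.support T₂ := hx
  rw [hs₂] at this
  exact hclosed x this

end core

end Groth.Agent.H5.NegCfg
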