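import Mathlib
import Groth.Agent.Lib.Helper5.NegCfg.LocInt2

/-!
# Intersection numbers of Cartier divisors on a Cohen–Macaulay surface (S7871), II
-/

set_option autoImplicit false
set_option linter.style.haveILetI false
universe u
open CategoryTheory CategoryTheory.Limits AlgebraicGeometry TopologicalSpace Opposite

namespace Groth.Agent.H5.NegCfg

open Groth.Agent.LD Groth.Agent.LD.QC Groth.Agent.H5.IntN Groth.Agent.H5.NumRS
  Groth.Agent.H5.Snap

/-- an associated point of an effective Cartier divisor has a local ring of depth one. -/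
theorem depth_eq_one_of_isAssPoint_quotMod {X : Scheme.{u}} [IsLocallyNoetherian X]
    (D : X.IdealSheafData) (hD : BlowUp.IsEffCartierIdeal D) (x : X)
    (hass : Curv2.IsAssPoint (ClSub.quotMod D) x) :
    LocCoh.depth (X.presheaf.stalk x) (X.presheaf.stalk x) = 1 := by
  obtain ⟨U, hxU, f, hf, hUf⟩ := hD x
  have hU : IsAffineOpen U.1 := U.2
  haveI : IsNoetherianRing Γ(X, U.1) := IsLocallyNoetherian.component_noetherian U
  have h1 := (Groth.Agent.H2.DepthS1.isAssPoint_iff (ClSub.quotMod D) hU x hxU).mp hass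
  set p := (hU.primeIdealOf ⟨x, hxU⟩).asIdeal with hp
  have h2 : IsAssociatedPrime p (Γ(X, U.1) ⧸ D.ideal U) :=
    (LinearEquiv.isAssociatedPrime_iff (quotSecEquiv D U)).mpr h1
  have h3 : IsAssociatedPrime p (Γ(X, U.1) ⧸ Ideal.span {f}) :=
    (LinearEquiv.isAssociatedPrime_iff (Submodule.quotEquivOfEq _ _ hUf)).mp h2
  have hreg : IsSMulRegular Γ(X, U.1) f := (isRegular_iff_mem_nonZeroDivisors.mpr hf).left
  have h4 := Groth.Agent.H6.DepthOne.depth_eq_one_of_mem_associatedPrimes f hreg p h3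
  letI : Algebra Γ(X, U.1) (X.presheaf.stalk x) :=
    TopCat.Presheaf.algebra_section_stalk X.presheaf ⟨x, hxU⟩
  haveI : IsLocalization.AtPrime (X.presheaf.stalk x) p := hU.isLocalization_stalk ⟨x, hxU⟩
  let σ : Localization.AtPrime p ≃+* X.presheaf.stalk x :=
    (IsLocalization.algEquiv p.primeCompl (Localization.AtPrime p)
      (X.presheaf.stalk x)).toRingEquiv
  rw [← (Groth.Agent.H2.SyntCM.depth_dim_of_ringEquiv σ).1]
  exact h4

variable (k : Type u) [Field k] (X : Scheme.{u}) [X.Over (Spec (CommRingCat.of k))]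
  [IsProper (X ↘ Spec (CommRingCat.of k))]

/-- **S7871**. -/
theorem intNum_eq_finrank_inter_cm
    (hdim : ∀ Z ∈ irreducibleComponents (X : Type u), topologicalKrullDim Z = 2)
    (hCM : ∀ x : X, LocCoh.IsCohenMacaulayLocalRing (X.presheaf.stalk x))
    (IC ID : X.IdealSheafData) (hC : BlowUp.IsEffCartierIdeal IC)
    (hD : BlowUp.IsEffCartierIdeal ID)
    (hfin : ((IC ⊔ ID).support : Set X).Finite) :
    FGA.intNum k X 2 ![ClSub.idealMod IC, ClSub.idealMod ID] (Coh.structureModule X) =
      (Module.finrank k (Coh.HH X (ClSub.quotMod (IC ⊔ ID)) 0) : ℤ) := by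
  haveI : IsNoetherian X := Groth.Agent.H5.Curve2.isNoetherian_of_proper k X
  haveI : JacobsonSpace X := LocallyOfFiniteType.jacobsonSpace (X ↘ Spec (CommRingCat.of k))
  have hd2 : topologicalKrullDim X ≤ ((2 : ℕ) : WithBot ℕ∞) :=
    dim_le_of_forall_irreducibleComponents _ (fun Z hZ => (hdim Z hZ).le)
  obtain ⟨hclosed, -⟩ := finite_closed_facts ((IC ⊔ ID).support : Set X)
    (IC ⊔ ID).support.isClosed hfin
  have hsuppeq : ((IC ⊔ ID).support : Set X) = (ID.support : Set X) ∩ (IC.support : Set X) := by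
    rw [Scheme.IdealSheafData.support_sup, Set.inter_comm]
    rfl
  refine intNum_eq_finrank_inter' k X hd2 IC ID hC hD hfin ?_
  intro x hx hassx
  have hnt := Groth.Agent.H3.AssSupp.nontrivial_stalk_of_isAssPoint _ x hassx
  have hxD : x ∈ (ID.support : Set X) := by
    rw [← support_quotMod ID]
    exact not_subsingleton_iff_nontrivial.mpr hnt
  have hxS : x ∈ ((IC ⊔ ID).support : Set X) := by
    rw [hsuppeq]; exact ⟨hxD, hx⟩
  have hxcl := hclosed x hxS
  have h1 := depth_eq_one_of_isAssPoint_quotMod ID hD x hassx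
  have h2 : FlatMor.localDim X x = 2 :=
    (Groth.Agent.H1.RelDim.forall_dim_irreducibleComponents_iff
      (X ↘ Spec (CommRingCat.of k)) 2).mp hdim x
  have h3 := Groth.Agent.H1.DimFormula.localDim_eq_stalk_of_isClosed
    (X ↘ Spec (CommRingCat.of k)) x hxcl
  have h4 := (hCM x).supportDim_eq_depth
  rw [Module.supportDim_self_eq_ringKrullDim, ← h3, h2, h1] at h4
  exact absurd h4 (by decide)

end Groth.Agent.H5.NegCfg
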