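import Mathlib
import Groth.Agent.Lib.Helper5.NegCfg.Cfg
import Groth.Agent.Lib.Helper5.NegCfg.IntLem2
import Groth.Agent.Lib.Helper5.NegCfg.TensorFin
import Groth.Agent.Lib.Lead.RR.SurfKitG

/-!
# A nef and big divisor contracting exactly a negative definite configuration (S18458)
-/

set_option autoImplicit false
set_option linter.style.haveILetI false
universe u
open CategoryTheory CategoryTheory.Limits AlgebraicGeometry TopologicalSpace Opposite

namespace Groth.Agent.H5.NegCfg

open Groth.Agent.LD Groth.Agent.LD.QC Groth.Agent.H5.IntN Groth.Agent.H5.NumRS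
  Groth.Agent.LD.RRS.Kit

variable (k : Type u) [Field k] (X : Scheme.{u}) [X.Over (Spec (CommRingCat.of k))]
  [IsProper (X ↘ Spec (CommRingCat.of k))] [IsIntegral X]

theorem exists_nef_big (hdim : topologicalKrullDim X = 2)
    (hreg : ∀ x : X, IsRegularLocalRing (X.presheaf.stalk x))
    (H : X.Modules) (hH : CohB1.IsAmple H)
    (r : ℕ) (C : Fin r → X.IdealSheafData) (hC : Function.Injective C)
    (hCi : ∀ i, IsIntegral (C i).subscheme)
    (hCd : ∀ i, topologicalKrullDim ((C i).support : Set X) = 1)
    (hneg : ∀ a : Fin r → ℤ, a ≠ 0 →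
      ∑ i, ∑ j, a i * a j * FGA.intNum k X 2 ![(ClSub.idealMod (C i)), (ClSub.idealMod (C j))]
        (Coh.structureModule X) < 0) :
    ∃ L : X.Modules, PicF.IsInvertible L ∧
      (∀ D : X.IdealSheafData, IsIntegral D.subscheme →
        topologicalKrullDim (D.support : Set X) = 1 →
        0 ≤ Curv2.euler k X (CohB1.tensorMod (ClSub.quotMod D) L) -
          Curv2.euler k X (ClSub.quotMod D)) ∧
      0 < FGA.intNum k X 2 ![L, L] (Coh.structureModule X) ∧
      (∀ D : X.IdealSheafData, IsIntegral D.subscheme →
        topologicalKrullDim (D.support : Set X) = 1 →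
        (Curv2.euler k X (CohB1.tensorMod (ClSub.quotMod D) L) -
          Curv2.euler k X (ClSub.quotMod D) = 0 ↔ ∃ i, D = C i)) := by
  have hd : topologicalKrullDim X ≤ ((2 : ℕ) : WithBot ℕ∞) := le_of_eq hdim
  have hinv := fun i => isInvertible_curve k X hdim hreg C hCi hCd i
  have hcart := fun i => isEffCartier_curve k X hdim hreg C hCi hCd i
  set t : Fin r → ℤ := fun j =>
    FGA.intNum k X 2 ![H, ClSub.idealMod (C j)] (Coh.structureModule X) with ht
  have htneg : ∀ j, t j < 0 := fun j =>
    intNum_ample_idealMod_neg k X hdim H hH (C j) (hcart j) (hCd j)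
  have hsymm : ∀ i j, gram k X C i j = gram k X C j i := fun i j =>
    intNum_comm k _ _ (hinv i) (hinv j)
  obtain ⟨m, s, hm, hs, hsol⟩ := exists_int_solution (gram k X C) hsymm
    (gram_off_nonneg k X hdim hreg C hC hCi hCd) hneg t (fun j => (htneg j).le)
  set n : Fin r → ℕ := fun i => (s i).toNat with hn
  have hns : ∀ i, ((n i : ℕ) : ℤ) = s i := fun i => Int.toNat_of_nonneg (hs i)
  have hmm : ((m.toNat : ℕ) : ℤ) = m := Int.toNat_of_nonneg hm.le
  set P : Fin r → X.Modules := fun i => CohB1.tensorPow (ClSub.idealMod (C i)) (n i) with hP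
  have hPinv : ∀ i, PicF.IsInvertible (P i) := fun i => isInvertible_tensorPow (hinv i) _
  set N : X.Modules := tprod r P with hNdef
  have hN : PicF.IsInvertible N := isInvertible_tprod r P hPinv
  obtain ⟨N', hN', ⟨eN⟩⟩ := Groth.Agent.H5.Glue.exists_inverse N hN
  set Hm : X.Modules := CohB1.tensorPow H m.toNat with hHm
  have hHminv : PicF.IsInvertible Hm := isInvertible_tensorPow hH.1 _
  set L : X.Modules := CohB1.tensorMod Hm N' with hL
  have hLinv : PicF.IsInvertible L := isInvertible_tensorMod hHminv hN'
  -- the key formula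
  have hkey : ∀ D : X.Modules, PicF.IsInvertible D →
      FGA.intNum k X 2 ![L, D] (Coh.structureModule X) =
        m * FGA.intNum k X 2 ![H, D] (Coh.structureModule X) -
          ∑ i, s i * FGA.intNum k X 2 ![ClSub.idealMod (C i), D] (Coh.structureModule X) := by
    intro D hD
    rw [hL, intNum_tensor_left k hd Hm N' D hHminv hN' hD, hHm,
      intNum_pow_left k hd H D hH.1 hD, intNum_inv_left k hd N N' D hN hD eN, hNdef,
      intNum_tprod_left k hd D hD r P hPinv, hmm]
    have : ∑ i, FGA.intNum k X 2 ![P i, D] (Coh.structureModule X) =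
        ∑ i, s i * FGA.intNum k X 2 ![ClSub.idealMod (C i), D] (Coh.structureModule X) := by
      apply Finset.sum_congr rfl
      intro i _
      rw [hP, intNum_pow_left k hd _ D (hinv i) hD, hns]
    rw [this]
    ring
  -- orthogonal to the `C j`
  have hzero : ∀ j, FGA.intNum k X 2 ![L, ClSub.idealMod (C j)] (Coh.structureModule X) = 0 := by
    intro j
    rw [hkey _ (hinv j)]
    have := hsol j
    change ∑ i, s i * FGA.intNum k X 2 ![ClSub.idealMod (C i), ClSub.idealMod (C j)]
      (Coh.structureModule X) = m * t j at this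
    rw [this]
    ring
  -- negative on the other curves
  have hother : ∀ D : X.IdealSheafData, IsIntegral D.subscheme →
      topologicalKrullDim (D.support : Set X) = 1 → (¬ ∃ i, D = C i) →
      FGA.intNum k X 2 ![L, ClSub.idealMod D] (Coh.structureModule X) < 0 := by
    intro D hDi hDd hex
    push Not at hex
    obtain ⟨hDcart, hDinv⟩ := isInvertible_idealMod_of_curve k X hdim hreg D hDi hDd
    rw [hkey _ hDinv]
    have h1 := intNum_ample_idealMod_neg k X hdim H hH D hDcart hDd
    have h2 : 0 ≤ ∑ i, s i * FGA.intNum k X 2 ![ClSub.idealMod (C i), ClSub.idealMod D]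
        (Coh.structureModule X) := by
      apply Finset.sum_nonneg
      intro i _
      exact mul_nonneg (hs i) (intNum_curves_nonneg k X hdim (C i) D (hCi i) hDi (hCd i) hDd
        (hinv i) hDinv (fun h => hex i h.symm))
    have h3 : m * FGA.intNum k X 2 ![H, ClSub.idealMod D] (Coh.structureModule X) < 0 :=
      mul_neg_of_pos_of_neg hm h1
    linarith
  have hdeg : ∀ D : X.IdealSheafData, IsIntegral D.subscheme →
      topologicalKrullDim (D.support : Set X) = 1 →
      Curv2.euler k X (CohB1.tensorMod (ClSub.quotMod D) L) - Curv2.euler k X (ClSub.quotMod D) =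
        - FGA.intNum k X 2 ![L, ClSub.idealMod D] (Coh.structureModule X) := by
    intro D hDi hDd
    obtain ⟨hDcart, hDinv⟩ := isInvertible_idealMod_of_curve k X hdim hreg D hDi hDd
    exact euler_quotMod_sub_eq_neg_intNum k X hdim L hLinv D hDcart hDd.le
  refine ⟨L, hLinv, ?_, ?_, ?_⟩
  · intro D hDi hDd
    rw [hdeg D hDi hDd]
    by_cases hex : ∃ i, D = C i
    · obtain ⟨i, rfl⟩ := hex
      rw [hzero i]; simp
    · have := hother D hDi hDd hex
      linarith
  · rw [hkey L hLinv]
    have h1 : ∀ i, FGA.intNum k X 2 ![ClSub.idealMod (C i), L] (Coh.structureModule X) = 0 := by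
      intro i
      rw [intNum_comm k _ _ (hinv i) hLinv]
      exact hzero i
    have h2 : ∑ i, s i * FGA.intNum k X 2 ![ClSub.idealMod (C i), L]
        (Coh.structureModule X) = 0 := by
      apply Finset.sum_eq_zero
      intro i _
      rw [h1 i, mul_zero]
    rw [h2, sub_zero, intNum_comm k H L hH.1 hLinv, hkey H hH.1]
    have h3 := Groth.Agent.LD.RRS.KitG.intNum_self_pos_of_isAmple k hdim H hH
    have h4 : ∑ i, s i * FGA.intNum k X 2 ![ClSub.idealMod (C i), H]
        (Coh.structureModule X) ≤ 0 := by
      apply Finset.sum_nonpos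
      intro i _
      exact mul_nonpos_of_nonneg_of_nonpos (hs i)
        (curve_ample_neg k X hdim hreg C hCi hCd H hH i).le
    have h5 : 0 < m * FGA.intNum k X 2 ![H, H] (Coh.structureModule X) := mul_pos hm h3
    exact mul_pos hm (by linarith)
  · intro D hDi hDd
    rw [hdeg D hDi hDd]
    constructor
    · intro h0
      by_contra hex
      have := hother D hDi hDd hex
      linarith
    · rintro ⟨i, rfl⟩
      rw [hzero i]; simp

end Groth.Agent.H5.NegCfg
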